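import Groth.Agent.UnibranchConnLib.Branch
import Groth.Agent.EtGenLib.Branches
import Groth.Agent.HensFormalLib.SepClosed

/-!
# The complement of the closed fibre over a geometrically unibranch base is connected
-/

set_option autoImplicit false
set_option maxHeartbeats 1600000
set_option linter.style.haveILetI false
set_option synthInstance.maxHeartbeats 400000

universe u

open IsLocalRing EGA4 TensorProduct

namespace UnibranchConnLib

/-- The union of two basic opens given by a regular sequence of a local ring is connected. -/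
theorem isPreconnected_two_opens (C : Type u) [CommRing C] [IsLocalRing C] (a b : C) (ha : a ∈ nonZeroDivisors C)
    (hb : b ∈ nonZeroDivisors C) (hreg : ∀ (n : ℕ) (z : C), a ^ n ∣ b ^ n * z → a ^ n ∣ z) :
    IsPreconnected ((PrimeSpectrum.basicOpen a : Set (PrimeSpectrum C)) ∪ PrimeSpectrum.basicOpen b) := by
  intro u v hu hv hcov hne hne'
  by_contra hcon
  rw [Set.not_nonempty_iff_eq_empty] at hcon
  let W : Set (PrimeSpectrum C) := (PrimeSpectrum.basicOpen a : Set (PrimeSpectrum C)) ∪ PrimeSpectrum.basicOpen b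
  have hclopen : ∀ (L : Type u) [CommRing L] [Algebra C L], (∀ Q : PrimeSpectrum L, PrimeSpectrum.comap (algebraMap C L) Q ∈ W) →
      ∃ e : L, IsIdempotentElem e ∧
        PrimeSpectrum.comap (algebraMap C L) ⁻¹' u = (PrimeSpectrum.basicOpen e : Set (PrimeSpectrum L)) := by
    intro L _ _ hL
    refine PrimeSpectrum.isClopen_iff.1 ⟨⟨?_⟩, hu.preimage (PrimeSpectrum.continuous_comap _)⟩
    rw [show (PrimeSpectrum.comap (algebraMap C L) ⁻¹' u)ᶜ = PrimeSpectrum.comap (algebraMap C L) ⁻¹' v from ?_]
    · exact hv.preimage (PrimeSpectrum.continuous_comap _)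
    ext Q
    refine ⟨fun h => (hcov (hL Q)).resolve_left h, fun h h' => ?_⟩
    exact Set.eq_empty_iff_forall_notMem.1 hcon _ ⟨hL Q, h', h⟩
  let Ca := Localization.Away a
  let Cb := Localization.Away b
  let Cab := Localization.Away (a * b)
  have hmem : ∀ (c : C) (Q : PrimeSpectrum (Localization.Away c)),
      PrimeSpectrum.comap (algebraMap C (Localization.Away c)) Q ∈ PrimeSpectrum.basicOpen c := fun c Q => by
    have := PrimeSpectrum.localization_away_comap_range (Localization.Away c) c
    exact this.le ⟨Q, rfl⟩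
  obtain ⟨ea, hea, hea'⟩ := hclopen Ca fun Q => Or.inl (hmem a Q)
  obtain ⟨eb, heb, heb'⟩ := hclopen Cb fun Q => Or.inr (hmem b Q)
  let fa : Ca →+* Cab := IsLocalization.Away.awayToAwayRight a b
  let fb : Cb →+* Cab := IsLocalization.Away.awayToAwayLeft b a
  have hfa : ∀ c, fa (algebraMap C Ca c) = algebraMap C Cab c := fun c => IsLocalization.Away.awayToAwayRight_eq _ _ _
  have hfb : ∀ c, fb (algebraMap C Cb c) = algebraMap C Cab c := fun c => IsLocalization.Away.awayToAwayLeft_eq _ _ _
  have hagree : fa ea = fb eb := by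
    refine PrimeSpectrum.basicOpen_injOn_isIdempotentElem (hea.map fa) (heb.map fb) (TopologicalSpace.Opens.ext ?_)
    have h1 : ((PrimeSpectrum.basicOpen (fa ea) : TopologicalSpace.Opens _) : Set (PrimeSpectrum Cab)) =
        PrimeSpectrum.comap fa ⁻¹' (PrimeSpectrum.basicOpen ea : Set (PrimeSpectrum Ca)) := rfl
    have h2 : ((PrimeSpectrum.basicOpen (fb eb) : TopologicalSpace.Opens _) : Set (PrimeSpectrum Cab)) =
        PrimeSpectrum.comap fb ⁻¹' (PrimeSpectrum.basicOpen eb : Set (PrimeSpectrum Cb)) := rfl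
    rw [h1, h2, ← hea', ← heb']
    ext Q
    simp only [Set.mem_preimage]
    rw [← PrimeSpectrum.comap_comp_apply, ← PrimeSpectrum.comap_comp_apply,
      show fa.comp (algebraMap C Ca) = algebraMap C Cab from RingHom.ext hfa,
      show fb.comp (algebraMap C Cb) = algebraMap C Cab from RingHom.ext hfb]
  obtain ⟨n₁, s₁, hs₁⟩ := IsLocalization.Away.surj a ea
  obtain ⟨n₂, t₁, ht₁⟩ := IsLocalization.Away.surj b eb
  let n := n₁ + n₂
  have hs : ea * algebraMap C Ca a ^ n = algebraMap C Ca (s₁ * a ^ n₂) := by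
    rw [pow_add, ← mul_assoc, hs₁, map_mul, map_pow]
  have ht : eb * algebraMap C Cb b ^ n = algebraMap C Cb (t₁ * b ^ n₁) := by
    rw [pow_add, mul_comm (algebraMap C Cb b ^ n₁), ← mul_assoc, ht₁, map_mul, map_pow]
  have hab : a * b ∈ nonZeroDivisors C := mul_mem ha hb
  have hinj : Function.Injective (algebraMap C Cab) :=
    IsLocalization.injective Cab (Submonoid.powers_le.2 hab)
  have hst : b ^ n * (s₁ * a ^ n₂) = a ^ n * (t₁ * b ^ n₁) := by
    refine hinj ?_
    rw [map_mul, map_mul (algebraMap C Cab) (a ^ n), ← hfa (s₁ * a ^ n₂), ← hfb (t₁ * b ^ n₁), ← hs, ← ht, map_mul,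
      map_mul, map_pow fa, map_pow fb, hfa, hfb, hagree, map_pow, map_pow]
    ring
  obtain ⟨r, hr⟩ := hreg n (s₁ * a ^ n₂) ⟨_, hst⟩
  have hr' : b ^ n * r = t₁ * b ^ n₁ := by
    refine (mul_cancel_left_mem_nonZeroDivisors (pow_mem ha n)).1 ?_
    rw [← hst, hr]; ring
  have hear : ea = algebraMap C Ca r := by
    refine ((IsLocalization.map_units Ca (⟨a ^ n, n, rfl⟩ : Submonoid.powers a)).mul_left_inj).1 ?_
    show ea * algebraMap C Ca (a ^ n) = algebraMap C Ca r * algebraMap C Ca (a ^ n)
    rw [map_pow, hs, hr, map_mul, map_pow, mul_comm]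
  have hebr : eb = algebraMap C Cb r := by
    refine ((IsLocalization.map_units Cb (⟨b ^ n, n, rfl⟩ : Submonoid.powers b)).mul_left_inj).1 ?_
    show eb * algebraMap C Cb (b ^ n) = algebraMap C Cb r * algebraMap C Cb (b ^ n)
    rw [map_pow, ht, ← hr', map_mul, map_pow, mul_comm]
  have hinja : Function.Injective (algebraMap C Ca) := IsLocalization.injective Ca (Submonoid.powers_le.2 ha)
  have hridem : IsIdempotentElem r := hinja (by rw [map_mul, ← hear]; exact hea.eq)
  have hcase : r = 0 ∨ r = 1 := by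
    rcases IsLocalRing.isUnit_or_isUnit_one_sub_self r with h | h
    · exact Or.inr (IsUnit.mul_left_cancel h (by rw [hridem.eq, mul_one]))
    · exact Or.inl (h.mul_right_eq_zero.1 (by rw [sub_mul, one_mul, hridem.eq, sub_self]))
  have hlift : ∀ x ∈ W, (∃ Q : PrimeSpectrum Ca, PrimeSpectrum.comap (algebraMap C Ca) Q = x) ∨
      ∃ Q : PrimeSpectrum Cb, PrimeSpectrum.comap (algebraMap C Cb) Q = x := by
    rintro x (h | h)
    · exact Or.inl ((PrimeSpectrum.localization_away_comap_range Ca a).ge h)
    · exact Or.inr ((PrimeSpectrum.localization_away_comap_range Cb b).ge h)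
  have hiff : ∀ x ∈ W, (x ∈ u ↔ r ∉ x.asIdeal) := by
    intro x hx
    rcases hlift x hx with ⟨Q, rfl⟩ | ⟨Q, rfl⟩
    · show Q ∈ PrimeSpectrum.comap (algebraMap C Ca) ⁻¹' u ↔ _
      rw [hea', SetLike.mem_coe, PrimeSpectrum.mem_basicOpen, hear]
      rfl
    · show Q ∈ PrimeSpectrum.comap (algebraMap C Cb) ⁻¹' u ↔ _
      rw [heb', SetLike.mem_coe, PrimeSpectrum.mem_basicOpen, hebr]
      rfl
  rcases hcase with rfl | rfl
  · obtain ⟨x, hxW, hxu⟩ := hne
    exact (hiff x hxW).1 hxu (zero_mem _)
  · obtain ⟨x, hxW, hxv⟩ := hne'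
    refine Set.eq_empty_iff_forall_notMem.1 hcon x ⟨hxW, (hiff x hxW).2 fun h => ?_, hxv⟩
    exact x.2.ne_top ((Ideal.eq_top_iff_one _).2 h)

attribute [local instance] Algebra.TensorProduct.rightAlgebra in
/-- Over a geometrically unibranch base of dimension at least two, the complement of the closed fibre is connected. -/
theorem isPreconnected_compl_fibre (A B : Type u) [CommRing A] [IsNoetherianRing A] [IsLocalRing A] [IsDomain A]
    [CommRing B] [IsLocalRing B] [Algebra A B] [IsLocalHom (algebraMap A B)] [Module.Flat A B]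
    (hA : CAlg2.IsGeomUnibranch A) (hdim : 2 ≤ ringKrullDim A) :
    IsPreconnected {P : PrimeSpectrum B | P.asIdeal.comap (algebraMap A B) ≠ maximalIdeal A} := by
  haveI : Module.FaithfullyFlat A B := Module.FaithfullyFlat.of_flat_of_isLocalHom
  haveI : IsDomain (CAlg2.red A) := hA.1.1
  let K := FractionRing (CAlg2.red A)
  let N := CAlg2.normRed A
  have hnil : nilradical A = ⊥ := nilradical_eq_zero A
  let ε : A ≃+* CAlg2.red A := RingEquiv.ofBijective (Ideal.Quotient.mk (nilradical A))
    ⟨(injective_iff_map_eq_zero _).2 fun x hx => by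
      rwa [Ideal.Quotient.eq_zero_iff_mem, hnil, Submodule.mem_bot] at hx, Ideal.Quotient.mk_surjective⟩
  haveI : FaithfulSMul A K := (faithfulSMul_iff_algebraMap_injective A K).2 fun x y h =>
    ε.injective (IsFractionRing.injective (CAlg2.red A) K h)
  haveI : IsFractionRing A K := IsFractionRing.of_field A K fun z => by
    obtain ⟨x, y, -, rfl⟩ := IsFractionRing.div_surjective (A := CAlg2.red A) z
    obtain ⟨x, rfl⟩ := Ideal.Quotient.mk_surjective x
    obtain ⟨y, rfl⟩ := Ideal.Quotient.mk_surjective y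
    exact ⟨x, y, rfl⟩
  haveI : IsLocalRing N := hA.1.2
  haveI : Algebra.IsIntegral A N := Algebra.IsIntegral.trans (CAlg2.red A)
  haveI := HensFormalLib.isLocalHom_of_isIntegral A N
  have hAN : Function.Injective (algebraMap A N) := fun x y h => IsFractionRing.injective A K (congrArg Subtype.val h)
  have hdimA : 1 ≤ ringKrullDim A := le_trans (by decide) hdim
  have hbig : EtGenLib.Big (Cpl A) := by
    refine (EtGenLib.big_strict_iff A (HenselLib.SH A)).1 ((EtGenLib.big_norm_iff A (HenselLib.SH A) N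
      (HenselBranchLib.isNormRed_normRed A (minimalPrimes.finite_of_isNoetherianRing A))).1 fun m' => ?_)
    rw [IsLocalization.AtPrime.ringKrullDim_eq_height m'.asIdeal, IsLocalRing.eq_maximalIdeal m'.isMaximal,
      IsLocalRing.maximalIdeal_height_eq_ringKrullDim, CommAlgDim.ringKrullDim_eq_of_integral A N hAN]
    exact hdim
  obtain ⟨a, b, ham, ha, hbm, hb, hdet⟩ := exists_detect A hdimA hbig K
  have hN : ∀ (n : ℕ) (z : N), algebraMap A N a ^ n ∣ algebraMap A N b ^ n * z → algebraMap A N a ^ n ∣ z := by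
    rintro n z ⟨w, hw⟩
    have ha0 : algebraMap A K a ^ n ≠ 0 := pow_ne_zero n ((map_ne_zero_iff _ (IsFractionRing.injective A K)).2 ha)
    have hint : ∀ y : N, IsIntegral A (y : K) := fun y => (Algebra.IsIntegral.isIntegral (R := A) y).map
      ((IsScalarTower.toAlgHom A N K))
    have hw' : algebraMap A K b ^ n * (z : K) = algebraMap A K a ^ n * (w : K) := congrArg Subtype.val hw
    have hx := hdet n ((z : K) / algebraMap A K a ^ n) (by rw [mul_div_cancel₀ _ ha0]; exact hint z)
      (by rw [← mul_div_assoc, hw', mul_div_cancel_left₀ _ ha0]; exact hint w)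
    refine ⟨⟨(z : K) / algebraMap A K a ^ n, hx.tower_top⟩, Subtype.ext ?_⟩
    show (z : K) = algebraMap A K a ^ n * _
    rw [mul_div_cancel₀ _ ha0]
  -- the tensor product is local
  obtain ⟨q, hq⟩ := ExpChar.exists (ResidueField A)
  haveI := hq
  have hins : ∀ y : N, ∃ (n : ℕ) (a₀ : A), y ^ q ^ n - algebraMap A N a₀ ∈ maximalIdeal N := by
    intro y
    haveI : ExpChar (N ⧸ maximalIdeal N) q :=
      expChar_of_injective_ringHom (ResidueField.map (algebraMap A N)).injective q
    obtain ⟨n, c, hc⟩ := hA.2 (maximalIdeal N) (Ideal.Quotient.mk _ y)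
    rw [ringExpChar.eq (N ⧸ maximalIdeal N) q] at hc
    refine ⟨n, c, ?_⟩
    rw [← Ideal.Quotient.eq_zero_iff_mem, map_sub, map_pow, ← hc]
    exact sub_eq_zero.2 rfl
  haveI : Nontrivial (B ⊗[A] N) := Module.FaithfullyFlat.lTensor_nontrivial A B _
  haveI := HensFormalLib.isLocalRing_tensor_of_pow A B N q hins
  let C := N ⊗[A] B
  haveI : IsLocalRing C := (Algebra.TensorProduct.comm A B N).toRingEquiv.isLocalRing
  haveI : Algebra.IsIntegral B C := HenselBranchLib.isIntegral_normTensor A B N
  have hBC : Function.Injective (algebraMap B C) := Algebra.TensorProduct.includeRight_injective hAN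
  let U : Set (PrimeSpectrum B) := {P | P.asIdeal.comap (algebraMap A B) ≠ maximalIdeal A}
  let π := PrimeSpectrum.comap (algebraMap B C)
  have hsurj : Function.Surjective π := fun P => by
    haveI : FaithfulSMul B C := (faithfulSMul_iff_algebraMap_injective B C).2 hBC
    obtain ⟨⟨Q, hQ, hQP⟩⟩ := Ideal.nonempty_primesOver (S := C) P.asIdeal
    exact ⟨⟨Q, hQ⟩, PrimeSpectrum.ext hQP.over.symm⟩
  suffices h : IsPreconnected (π ⁻¹' U) by
    have := h.image π (PrimeSpectrum.continuous_comap _).continuousOn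
    rwa [Set.image_preimage_eq U hsurj] at this
  have hnzd : ∀ c : A, c ≠ 0 → algebraMap A C c ∈ nonZeroDivisors C := fun c hc => by
    refine mem_nonZeroDivisors_iff_right.2 fun z hz => ?_
    refine (Module.Flat.isSMulRegular_of_isRegular (M := C)
      (IsRegular.of_ne_zero (show algebraMap A N c ≠ 0 from (map_ne_zero_iff _ hAN).2 hc))) ?_
    show algebraMap A N c • z = algebraMap A N c • (0 : C)
    rw [smul_zero, Algebra.smul_def, mul_comm, ← IsScalarTower.algebraMap_apply A N C, hz]
  have hreg : ∀ (n : ℕ) (z : C), algebraMap A C a ^ n ∣ algebraMap A C b ^ n * z → algebraMap A C a ^ n ∣ z := by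
    intro n z hz
    let I : Ideal N := Ideal.span {algebraMap A N a ^ n}
    let e := Algebra.TensorProduct.quotIdealMapEquivTensorQuot C I
    let f : (N ⧸ I) →ₗ[N] (N ⧸ I) := (algebraMap A N b ^ n) • LinearMap.id
    have hf : Function.Injective f := (injective_iff_map_eq_zero f).2 fun y hy => by
      obtain ⟨y, rfl⟩ := Ideal.Quotient.mk_surjective y
      have hy' : Ideal.Quotient.mk I (algebraMap A N b ^ n * y) = 0 := hy
      rw [Ideal.Quotient.eq_zero_iff_mem, Ideal.mem_span_singleton] at hy' ⊢
      exact hN n y hy'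
    have hfC : Function.Injective (f.lTensor C) := Module.Flat.lTensor_preserves_injective_linearMap f hf
    have hmap : I.map (algebraMap N C) = Ideal.span {algebraMap A C a ^ n} := by
      rw [Ideal.map_span, Set.image_singleton, map_pow, ← IsScalarTower.algebraMap_apply A N C]
    rw [← Ideal.mem_span_singleton, ← hmap] at hz ⊢
    replace hz := (Ideal.Quotient.eq_zero_iff_mem (I := I.map (algebraMap N C))).2 hz
    refine (Ideal.Quotient.eq_zero_iff_mem (I := I.map (algebraMap N C))).1 ?_
    refine e.injective (hfC ?_)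
    rw [map_zero, map_zero]
    have h1 : ∀ y : C, e (Ideal.Quotient.mk _ y) = y ⊗ₜ[N] (1 : N ⧸ I) := fun y =>
      Algebra.TensorProduct.quotIdealMapEquivTensorQuot_mk C I y
    rw [h1, LinearMap.lTensor_tmul, LinearMap.smul_apply, LinearMap.id_apply, TensorProduct.tmul_smul,
      TensorProduct.smul_tmul', Algebra.smul_def, map_pow, ← IsScalarTower.algebraMap_apply A N C, ← h1, hz, map_zero]
  have hW := isPreconnected_two_opens C _ _ (hnzd a ha) (hnzd b hb) hreg
  refine hW.subset_closure ?_ ?_
  · intro x hx he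
    have key : ∀ c ∈ maximalIdeal A, algebraMap A C c ∈ x.asIdeal := fun c hc => by
      rw [IsScalarTower.algebraMap_apply A B C]
      exact he.ge hc
    rcases hx with hx | hx
    · exact hx (key a ham)
    · exact hx (key b hbm)
  · intro x _
    obtain ⟨P, hP, hle⟩ := Ideal.exists_minimalPrimes_le (I := (⊥ : Ideal C)) (J := x.asIdeal) bot_le
    refine ((PrimeSpectrum.le_iff_specializes ⟨P, hP.1.1⟩ x).1 hle).mem_closed isClosed_closure (subset_closure (Or.inl ?_))
    exact fun h => Set.disjoint_left.1 (Ideal.disjoint_nonZeroDivisors_of_mem_minimalPrimes hP) h (hnzd a ha)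

end UnibranchConnLib
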