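import Mathlib
import Groth.Agent.EtGenLib.Setup
import Groth.Agent.NormalLib.CompleteLocal
import Groth.Agent.NormalLib.N1
import Groth.Agent.NormalLib.Serre
import Groth.Agent.CommAlgDim.Integral
import Groth.Agent.HensFormalLib.Basic

/-!
# Integrality from the punctured spectrum when every formal branch has dimension at least two
-/

set_option autoImplicit false
set_option maxHeartbeats 1000000
set_option linter.style.haveILetI false
set_option synthInstance.maxHeartbeats 400000

universe u

open IsLocalRing EGA4 Polynomial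

namespace UnibranchConnLib

/-- In a normal noetherian local domain of dimension at least two, the finitely many height one primes over a nonzero
element do not contain the maximal ideal. -/
theorem exists_bad_primes (A N : Type u) [CommRing A] [IsLocalRing A] [CommRing N] [IsDomain N] [IsNoetherianRing N]
    [Algebra A N] (a : N) (ha : a ≠ 0)
    (hdim : ∀ (P : Ideal N) [P.IsPrime], (maximalIdeal A).map (algebraMap A N) ≤ P → 2 ≤ P.height) :
    ∃ s : Set (Ideal A), s.Finite ∧ (∀ p ∈ s, p.IsPrime ∧ p ≠ maximalIdeal A) ∧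
      ∀ P : Ideal N, P.IsPrime → a ∈ P → P.height = 1 → P.comap (algebraMap A N) ∈ s := by
  refine ⟨(fun P : Ideal N => P.comap (algebraMap A N)) '' {P | P.IsPrime ∧ a ∈ P ∧ P.height = 1}, ?_, ?_, ?_⟩
  · refine Set.Finite.image _ ((Ideal.finite_minimalPrimes_of_isNoetherianRing N (Ideal.span {a})).subset ?_)
    rintro P ⟨hP, haP, hh⟩
    haveI := hP
    haveI : P.FiniteHeight := inferInstance
    refine Ideal.mem_minimalPrimes_of_height_le ((Ideal.span_singleton_le_iff_mem P).2 haP) ?_
    rw [hh]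
    exact Ideal.one_le_height_span_singleton_of_mem_nonZeroDivisors (mem_nonZeroDivisors_of_ne_zero ha)
  · rintro _ ⟨P, ⟨hP, -, hh⟩, rfl⟩
    haveI := hP
    refine ⟨inferInstance, fun he => ?_⟩
    have := hdim P (Ideal.map_le_iff_le_comap.2 he.ge)
    rw [hh] at this
    exact absurd this (by norm_num)
  · exact fun P hP haP hh => ⟨P, ⟨hP, haP, hh⟩, rfl⟩

theorem dvd_of_mul (N : Type u) [CommRing N] [IsDomain N] [IsNoetherianRing N] [IsIntegrallyClosed N] (a b z : N)
    (ha : a ≠ 0) (hb : ∀ P : Ideal N, P.IsPrime → a ∈ P → P.height = 1 → b ∉ P) (n : ℕ)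
    (h : a ^ n ∣ b ^ n * z) : a ^ n ∣ z := by
  refine NormalLib.dvd_of_forall_associatedPrimes fun P hP => ?_
  have h1 := NormalLib.height_eq_one_of_mem_associatedPrimes (pow_ne_zero n ha) hP
  haveI : P.IsPrime := hP.isPrime
  exact ⟨b ^ n, fun hm => hb P ‹_› (Ideal.IsPrime.mem_of_pow_mem ‹_› n (NormalLib.mem_associatedPrimes_quotient_of_le hP))
    h1 (Ideal.IsPrime.mem_of_pow_mem ‹_› n hm), h⟩

/-- Products of monic polynomials vanishing on several quotients. -/
theorem exists_monic_of_forall {C ι : Type u} [CommRing C] [Nontrivial C] (s : Finset ι) (q : ι → Ideal C) (c d : C)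
    (h : ∀ i ∈ s, ∃ f : C[X], f.Monic ∧ (f.scaleRoots d).eval c ∈ q i) :
    ∃ f : C[X], f.Monic ∧ ∀ i ∈ s, (f.scaleRoots d).eval c ∈ q i := by
  classical
  induction s using Finset.induction_on with
  | empty => exact ⟨1, monic_one, fun i hi => absurd hi (Finset.notMem_empty i)⟩
  | insert i s hi ih =>
    obtain ⟨f, hf, hfs⟩ := ih fun j hj => h j (Finset.mem_insert_of_mem hj)
    obtain ⟨g, hg, hgi⟩ := h i (Finset.mem_insert_self i s)
    refine ⟨g * f, hg.mul hf, fun j hj => ?_⟩
    rw [mul_scaleRoots' g f d (by rw [hg.leadingCoeff, hf.leadingCoeff, mul_one]; exact one_ne_zero), eval_mul]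
    rcases Finset.mem_insert.1 hj with rfl | hj
    · exact Ideal.mul_mem_right _ _ hgi
    · exact Ideal.mul_mem_left _ _ (hfs j hj)

theorem scaleRoots_pow' {C : Type u} [CommRing C] [Nontrivial C] (f : C[X]) (hf : f.Monic) (d : C) (k : ℕ) :
    (f ^ k).scaleRoots d = (f.scaleRoots d) ^ k := by
  induction k with
  | zero => rw [pow_zero, pow_zero, one_scaleRoots]
  | succ k ih =>
    rw [pow_succ, pow_succ, mul_scaleRoots' _ _ d
      (by rw [(hf.pow k).leadingCoeff, hf.leadingCoeff, mul_one]; exact one_ne_zero), ih]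

/-- A homogenised integral equation descends along a faithfully flat extension. -/
theorem isIntegral_of_eval_scaleRoots {A C K : Type u} [CommRing A] [CommRing C] [Algebra A C]
    [Module.FaithfullyFlat A C] [Field K] [Algebra A K] [Nontrivial C] (c d : A) (hd : algebraMap A K d ≠ 0)
    (x : K) (hx : x * algebraMap A K d = algebraMap A K c)
    (f : C[X]) (hf : f.Monic) (h : (f.scaleRoots (algebraMap A C d)).eval (algebraMap A C c) = 0) :
    IsIntegral A x := by
  classical
  let e := f.natDegree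
  let g : Fin e → A := fun i => c ^ (i : ℕ) * d ^ (e - i)
  have hmem : algebraMap A C (c ^ e) ∈ (Ideal.span (Set.range g)).map (algebraMap A C) := by
    rw [eval_eq_sum_range, natDegree_scaleRoots, Finset.sum_range_succ, coeff_scaleRoots, hf.coeff_natDegree, one_mul,
      Nat.sub_self, pow_zero, one_mul, add_eq_zero_iff_eq_neg'] at h
    rw [map_pow, h]
    refine neg_mem (sum_mem fun i hi => ?_)
    rw [coeff_scaleRoots, mul_assoc]
    refine Ideal.mul_mem_left _ _ ?_
    rw [← map_pow, ← map_pow, ← map_mul, mul_comm]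
    exact Ideal.mem_map_of_mem _ (Ideal.subset_span ⟨⟨i, Finset.mem_range.1 hi⟩, rfl⟩)
  rw [← Ideal.mem_comap, Ideal.comap_map_eq_self_of_faithfullyFlat, Ideal.mem_span_range_iff_exists_fun] at hmem
  obtain ⟨u, hu⟩ := hmem
  refine ⟨X ^ e - ∑ i : Fin e, Polynomial.C (u i) * X ^ (i : ℕ), monic_X_pow_sub (degree_sum_fin_lt u), ?_⟩
  rw [← aeval_def, map_sub, map_pow, aeval_X, map_sum, sub_eq_zero]
  refine mul_right_cancel₀ (pow_ne_zero e hd) ?_
  rw [← mul_pow, hx, ← map_pow, ← hu, map_sum, Finset.sum_mul]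
  refine Finset.sum_congr rfl fun i _ => ?_
  simp only [g]
  simp only [map_mul, map_pow, aeval_C, aeval_X, ← hx, mul_pow, mul_assoc]
  rw [← pow_add, Nat.add_sub_cancel' (Nat.le_of_lt i.2)]

/-- Two elements detecting integrality in the complement of the closed point. -/
theorem exists_detect (A : Type u) [CommRing A] [IsNoetherianRing A] [IsLocalRing A] [IsDomain A]
    (hdim : 1 ≤ ringKrullDim A)
    (hbig : ∀ q ∈ minimalPrimes (Cpl A), (2 : WithBot ℕ∞) ≤ ringKrullDim (Cpl A ⧸ q))
    (K : Type u) [Field K] [Algebra A K] [IsFractionRing A K] :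
    ∃ a b : A, a ∈ maximalIdeal A ∧ a ≠ 0 ∧ b ∈ maximalIdeal A ∧ b ≠ 0 ∧ ∀ (n : ℕ) (x : K),
      IsIntegral A (algebraMap A K a ^ n * x) → IsIntegral A (algebraMap A K b ^ n * x) → IsIntegral A x := by
  classical
  have hA0 : ∃ a : A, a ∈ maximalIdeal A ∧ a ≠ 0 := by
    by_contra h
    push_neg at h
    have : maximalIdeal A = ⊥ := (Submodule.eq_bot_iff _).2 h
    rw [ringKrullDim_eq_zero_of_isField (IsLocalRing.isField_iff_maximalIdeal_eq.2 this)] at hdim
    exact absurd hdim (by decide)
  obtain ⟨a, ham, ha⟩ := hA0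
  haveI := AdicRingLib.isNoetherianRing_adicCompletion (maximalIdeal A)
  haveI : Module.Flat A (Cpl A) := AdicCompletion.flat_of_isNoetherian _
  have hmA : maximalIdeal (Cpl A) = (maximalIdeal A).map (algebraMap A (Cpl A)) := AdicCompletion.maximalIdeal_eq_map ..
  haveI : IsLocalHom (algebraMap A (Cpl A)) := (IsLocalRing.local_hom_TFAE _).out 2 0 |>.1 hmA.ge
  haveI : Module.FaithfullyFlat A (Cpl A) := Module.FaithfullyFlat.of_flat_of_isLocalHom
  haveI : IsAdicComplete (maximalIdeal (Cpl A)) (Cpl A) :=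
    hmA ▸ AdicRingLib.isAdicComplete_map (IsNoetherian.noetherian _)
  have hinj : Function.Injective (algebraMap A (Cpl A)) := FaithfulSMul.algebraMap_injective _ _
  let M := minimalPrimes (Cpl A)
  have hMfin : M.Finite := minimalPrimes.finite_of_isNoetherianRing _
  -- the data on one branch
  have hbranch : ∀ q ∈ M, ∃ s : Set (Ideal A), s.Finite ∧ (∀ p ∈ s, p.IsPrime ∧ p ≠ maximalIdeal A) ∧
      ∀ b : A, (∀ p ∈ s, b ∉ p) → ∀ (n : ℕ) (c d : A), d ≠ 0 → ∀ (x : K), x * algebraMap A K d = algebraMap A K c →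
        IsIntegral A (algebraMap A K a ^ n * x) → IsIntegral A (algebraMap A K b ^ n * x) →
        ∃ f : (Cpl A)[X], f.Monic ∧ (f.scaleRoots (algebraMap A _ d)).eval (algebraMap A _ c) ∈ q := by
    intro q hq
    haveI : q.IsPrime := hq.1.1
    let D := Cpl A ⧸ q
    haveI : IsLocalRing D := IsLocalRing.of_surjective' _ Ideal.Quotient.mk_surjective
    have hmD : maximalIdeal D = (maximalIdeal (Cpl A)).map (Ideal.Quotient.mk q) :=
      (IsLocalRing.map_maximalIdeal_of_surjective _ Ideal.Quotient.mk_surjective).symm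
    haveI : IsAdicComplete (maximalIdeal D) D := by
      rw [hmD]
      haveI : IsAdicComplete (maximalIdeal (Cpl A)) D := CompleteLib.isAdicComplete_of_finite
      exact (IsAdicComplete.map_algebraMap_iff (S := D) _ _).2 ‹_›
    let L := FractionRing D
    let N := integralClosure D L
    haveI : Module.Finite D N := NormalLib.finite_integralClosure_self (NormalLib.isN2_of_isAdicComplete_local D)
    haveI : IsNoetherianRing N := IsNoetherianRing.of_finite D N
    haveI : IsIntegrallyClosed N := integralClosure.isIntegrallyClosedOfFiniteExtension (R := D) L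
    haveI : HenselianLocalRing D := ⟨fun f hf a h1 h2 => HenselianRing.is_henselian (I := maximalIdeal D) f hf a h1 (h2.map _)⟩
    haveI : IsLocalRing N := HensFormalLib.isLocalRing_of_integral_domain D N
    have hreg : ∀ z : A, z ≠ 0 → algebraMap A D z ≠ 0 := fun z hz h0 => by
      have h1 : algebraMap A (Cpl A) z ∈ q := Ideal.Quotient.eq_zero_iff_mem.1 h0
      exact Set.disjoint_left.1 (Ideal.disjoint_nonZeroDivisors_of_mem_minimalPrimes hq) h1
        (mem_nonZeroDivisors_iff_right.2 fun u hu => by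
          refine (Module.Flat.isSMulRegular_of_isRegular (M := Cpl A) (IsRegular.of_ne_zero hz)) ?_
          show z • u = z • (0 : Cpl A)
          rw [smul_zero, Algebra.smul_def, mul_comm, hu])
    have hinjD : Function.Injective (algebraMap A L) := (injective_iff_map_eq_zero _).2 fun z hz => by
      by_contra hne
      rw [IsScalarTower.algebraMap_apply A D L, map_eq_zero_iff _ (IsFractionRing.injective D L)] at hz
      exact hreg z hne hz
    have haN : algebraMap A N a ≠ 0 := fun h0 => ha (hinjD (by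
      rw [map_zero]; exact congrArg Subtype.val h0))
    have hdimN : ∀ (P : Ideal N) [P.IsPrime], (maximalIdeal A).map (algebraMap A N) ≤ P → 2 ≤ P.height := by
      intro P _ hP
      have hPD : P.comap (algebraMap D N) = maximalIdeal D := by
        refine ((maximalIdeal.isMaximal D).eq_of_le (Ideal.IsPrime.ne_top') ?_).symm
        rw [hmD, hmA, Ideal.map_map, ← Ideal.map_le_iff_le_comap, Ideal.map_map]
        exact hP
      haveI : P.IsMaximal := Ideal.isMaximal_of_isIntegral_of_isMaximal_comap (R := D) P (hPD ▸ maximalIdeal.isMaximal D)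
      have h2 := hbig q hq
      rw [← CommAlgDim.ringKrullDim_eq_of_integral D N (FaithfulSMul.algebraMap_injective _ _),
        ← IsLocalRing.maximalIdeal_height_eq_ringKrullDim, ← IsLocalRing.eq_maximalIdeal ‹P.IsMaximal›] at h2
      exact WithBot.coe_le_coe.1 h2
    obtain ⟨s, hs, hsp, hsmem⟩ := exists_bad_primes A N (algebraMap A N a) haN hdimN
    refine ⟨s, hs, hsp, fun b hb n c d hd x hx hax hbx => ?_⟩
    let ι : K →ₐ[A] L := IsFractionRing.liftAlgHom (g := Algebra.ofId A L) hinjD
    let z : N := ⟨ι (algebraMap A K a ^ n * x), (hax.map ι).tower_top⟩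
    let w : N := ⟨ι (algebraMap A K b ^ n * x), (hbx.map ι).tower_top⟩
    have hdvd : algebraMap A N a ^ n ∣ z := by
      refine dvd_of_mul N _ (algebraMap A N b) z haN (fun P hP haP hh hbP => ?_) n ⟨w, Subtype.ext ?_⟩
      · exact hb _ (hsmem P hP haP hh) hbP
      · show algebraMap A L b ^ n * ι (algebraMap A K a ^ n * x) = algebraMap A L a ^ n * ι (algebraMap A K b ^ n * x)
        simp only [map_mul, map_pow, AlgHom.commutes]
        ring
    obtain ⟨y, hy⟩ := hdvd
    have hyx : (y : L) = ι x := by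
      refine mul_left_cancel₀ (pow_ne_zero n fun h0 => ha (hinjD (h0.trans (map_zero _).symm))) (a := algebraMap A L a ^ n) ?_
      have := congrArg Subtype.val hy
      simp only [z, map_mul, map_pow, AlgHom.commutes] at this
      exact this.symm
    obtain ⟨f, hf, hfy⟩ := y.2
    obtain ⟨F, hF, -, hFm⟩ := Polynomial.lifts_and_natDegree_eq_and_monic
      (Polynomial.map_surjective _ Ideal.Quotient.mk_surjective f) hf
    refine ⟨F, hFm, Ideal.Quotient.eq_zero_iff_mem.1 (IsFractionRing.injective D L ?_)⟩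
    rw [map_zero, ← eval₂_at_apply, ← eval_map, map_scaleRoots _ _ _ (by
      rw [hFm.leadingCoeff, map_one]; exact one_ne_zero), hF, ← aeval_algebraMap_apply_eq_algebraMap_eval]
    show aeval (algebraMap A L c) (f.scaleRoots (algebraMap A D d)) = 0
    rw [← ι.commutes c, ← hx, map_mul, ι.commutes, mul_comm, ← hyx, IsScalarTower.algebraMap_apply A D L]
    exact scaleRoots_aeval_eq_zero hfy
  choose! s hs hsp hsb using hbranch
  let T : Set (Ideal A) := insert ⊥ (⋃ q ∈ M, s q)
  have hTfin : T.Finite := (hMfin.biUnion hs).insert _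
  have hTp : ∀ p ∈ T, p.IsPrime ∧ p ≠ maximalIdeal A := by
    intro p hp
    rcases hp with rfl | hp
    · exact ⟨Ideal.isPrime_bot, fun h => ha ((Submodule.mem_bot A).1 (h.ge ham))⟩
    · obtain ⟨q, hq, hpq⟩ := Set.mem_iUnion₂.1 hp
      exact hsp q hq p hpq
  obtain ⟨b, hbm, hbT⟩ : ∃ b ∈ maximalIdeal A, ∀ p ∈ T, b ∉ p := by
    by_contra h
    push_neg at h
    have hsub : (maximalIdeal A : Set A) ⊆ ⋃ p ∈ (hTfin.toFinset : Set (Ideal A)), (p : Set A) := fun x hx => by
      obtain ⟨p, hp, hxp⟩ := h x hx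
      exact Set.mem_biUnion (hTfin.mem_toFinset.2 hp) hxp
    obtain ⟨p, hp, hle⟩ := (Ideal.subset_union_prime ⊥ ⊥ fun i hi _ _ => (hTp i (hTfin.mem_toFinset.1 hi)).1).1 hsub
    have hp' := hTp p (hTfin.mem_toFinset.1 hp)
    exact hp'.2 (((maximalIdeal.isMaximal A).eq_of_le hp'.1.ne_top hle).symm)
  refine ⟨a, b, ham, ha, hbm, fun h => hbT ⊥ (Set.mem_insert _ _) ((Submodule.mem_bot A).2 h), fun n x hax hbx => ?_⟩
  obtain ⟨⟨c, d⟩, hx⟩ := IsLocalization.surj (nonZeroDivisors A) x
  have hd : (d : A) ≠ 0 := nonZeroDivisors.coe_ne_zero d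
  obtain ⟨f, hf, hfq⟩ := exists_monic_of_forall hMfin.toFinset id (algebraMap A (Cpl A) c) (algebraMap A (Cpl A) d)
    fun q hq => hsb q (hMfin.mem_toFinset.1 hq) b (fun p hp => hbT p (Set.mem_insert_of_mem _
      (Set.mem_biUnion (hMfin.mem_toFinset.1 hq) hp))) n c d hd x hx hax hbx
  have hnil : IsNilpotent ((f.scaleRoots (algebraMap A (Cpl A) d)).eval (algebraMap A (Cpl A) c)) := by
    rw [← mem_nilradical, nilradical, Ideal.radical_eq_sInf, Submodule.mem_sInf]
    rintro p ⟨-, hp⟩
    haveI := hp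
    obtain ⟨q, hq, hqp⟩ := Ideal.exists_minimalPrimes_le (I := (⊥ : Ideal (Cpl A))) (J := p) bot_le
    exact hqp (hfq q (hMfin.mem_toFinset.2 hq))
  obtain ⟨k, hk⟩ := hnil
  refine isIntegral_of_eval_scaleRoots c d ?_ x hx (f ^ k) (hf.pow k) ?_
  · exact (map_ne_zero_iff _ (IsFractionRing.injective A K)).2 hd
  · rw [scaleRoots_pow' f hf, eval_pow, hk]

end UnibranchConnLib
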